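import Mathlib

/-!
# Patch-closed sets in (pre)spectral spaces (helper19)

Closed sets of the constructible topology, and the finite intersection property for them.
-/

set_option autoImplicit false

namespace Groth.Agent.Helper19.SpecQuot

open Topology Set

variable {X : Type*} [TopologicalSpace X]

/-- closed in the constructible topology. -/
def PatchClosed (K : Set X) : Prop := IsClosed[constructibleTopology X] K

theorem patchClosed_sInter {𝒦 : Set (Set X)} (h : ∀ K ∈ 𝒦, PatchClosed K) : PatchClosed (⋂₀ 𝒦) :=
  @isClosed_sInter X (constructibleTopology X) 𝒦 h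

theorem patchClosed_of_isCompact_isOpen {W : Set X} (hc : IsCompact W) (ho : IsOpen W) :
    PatchClosed W := by
  unfold PatchClosed
  rw [← @isOpen_compl_iff X _ (constructibleTopology X)]
  exact IsCompact.isOpen_constructibleTopology_of_isClosed (by rwa [compl_compl]) ho.isClosed_compl

theorem patchOpen_of_isOpen [PrespectralSpace X] {W : Set X} (ho : IsOpen W) :
    IsOpen[constructibleTopology X] W := by
  obtain ⟨𝒮, h𝒮, rfl⟩ := PrespectralSpace.isTopologicalBasis.open_eq_sUnion ho
  exact @isOpen_sUnion X (constructibleTopology X) 𝒮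
    (fun s hs => (h𝒮 hs).2.isOpen_constructibleTopology_of_isOpen (h𝒮 hs).1)

theorem patchClosed_of_isClosed [PrespectralSpace X] {K : Set X} (h : IsClosed K) : PatchClosed K := by
  unfold PatchClosed
  rw [← @isOpen_compl_iff X _ (constructibleTopology X)]
  exact patchOpen_of_isOpen h.isOpen_compl

theorem ct_compactSpace [CompactSpace X] [QuasiSober X] [PrespectralSpace X] [QuasiSeparatedSpace X] :
    @CompactSpace X (constructibleTopology X) :=
  @Function.Surjective.compactSpace (WithConstructibleTopology X) X _ (constructibleTopology X)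
    WithTopology.ofTopology (WithTopology.continuous_ofTopology _) inferInstance
    (WithTopology.ofTopology_surjective _)

theorem nonempty_sInter_of_patchClosed [CompactSpace X] [QuasiSober X] [PrespectralSpace X]
    [QuasiSeparatedSpace X] {𝒦 : Set (Set X)} (hc : ∀ K ∈ 𝒦, PatchClosed K)
    (hf : ∀ t ⊆ 𝒦, t.Finite → (⋂₀ t).Nonempty) : (⋂₀ 𝒦).Nonempty :=
  @CompactSpace.nonempty_sInter X (constructibleTopology X) ct_compactSpace 𝒦 hc hf

theorem continuous_ct {Y : Type*} [TopologicalSpace Y] {f : X → Y} (hf : IsSpectralMap f) :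
    Continuous[constructibleTopology X, constructibleTopology Y] f := by
  refine continuous_generateFrom_iff.2 ?_
  rintro s (⟨hso, hsc⟩ | ⟨hscl, hsc⟩)
  · exact (hf.isCompact_preimage_of_isOpen hso hsc).isOpen_constructibleTopology_of_isOpen
      (hso.preimage hf.continuous)
  · refine IsCompact.isOpen_constructibleTopology_of_isClosed ?_ (hscl.preimage hf.continuous)
    rw [← preimage_compl]
    exact hf.isCompact_preimage_of_isOpen hscl.isOpen_compl hsc

theorem patchClosed_preimage {Y : Type*} [TopologicalSpace Y] {f : X → Y} (hf : IsSpectralMap f)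
    {K : Set Y} (hK : PatchClosed K) : PatchClosed (f ⁻¹' K) :=
  @IsClosed.preimage X Y (constructibleTopology X) (constructibleTopology Y) f (continuous_ct hf) K hK

theorem patchClosed_singleton [T0Space X] [PrespectralSpace X] (x : X) : PatchClosed ({x} : Set X) := by
  unfold PatchClosed
  rw [← @isOpen_compl_iff X _ (constructibleTopology X)]
  refine (@isOpen_iff_forall_mem_open X (constructibleTopology X) _).2 fun y hy => ?_
  have hne : y ≠ x := hy
  obtain ⟨O, hO, hx⟩ := exists_isOpen_xor'_mem hne
  rcases hx with ⟨hyO, hxO⟩ | ⟨hxO, hyO⟩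
  · obtain ⟨W, ⟨hWo, hWc⟩, hyW, hWO⟩ :=
      PrespectralSpace.isTopologicalBasis.exists_subset_of_mem_open hyO hO
    refine ⟨W, fun z hz hzx => hxO (hWO (hzx ▸ hz)), hWc.isOpen_constructibleTopology_of_isOpen hWo, hyW⟩
  · obtain ⟨W, ⟨hWo, hWc⟩, hxW, hWO⟩ :=
      PrespectralSpace.isTopologicalBasis.exists_subset_of_mem_open hxO hO
    refine ⟨Wᶜ, fun z hz hzx => hz (hzx ▸ hxW), ?_, fun h => hyO (hWO h)⟩
    exact IsCompact.isOpen_constructibleTopology_of_isClosed (by rwa [compl_compl]) hWo.isClosed_compl

/-- a closed non-empty subset of a quasi-sober `T0` space has a point with no proper generization in it. -/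
theorem exists_maximal_point [QuasiSober X] [T0Space X] (T : Set X) (hTc : IsClosed T)
    (hTn : T.Nonempty) : ∃ η ∈ T, ∀ v ∈ T, η ∈ closure ({v} : Set X) → v = η := by
  obtain ⟨x₀, hx₀⟩ := hTn
  haveI : QuasiSober T := hTc.isClosedEmbedding_subtypeVal.quasiSober
  let C : Set T := irreducibleComponent (⟨x₀, hx₀⟩ : T)
  obtain ⟨η', hη'⟩ := QuasiSober.sober (isIrreducible_irreducibleComponent (x := (⟨x₀, hx₀⟩ : T)))
    isClosed_irreducibleComponent
  refine ⟨η'.1, η'.2, fun v hv hηv => ?_⟩
  let v' : T := ⟨v, hv⟩
  have h1 : η' ∈ closure ({v'} : Set T) := by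
    rw [Topology.IsInducing.subtypeVal.closure_eq_preimage_closure_image, image_singleton]
    exact hηv
  have h2 : C ⊆ closure ({v'} : Set T) := by
    change irreducibleComponent (⟨x₀, hx₀⟩ : T) ⊆ _
    rw [← hη'.def]
    exact closure_minimal (singleton_subset_iff.2 h1) isClosed_closure
  have h3 : closure ({v'} : Set T) = C :=
    eq_irreducibleComponent (isIrreducible_singleton.closure).2 h2
  have h4 : Inseparable v' η' := by
    rw [inseparable_iff_closure_eq, h3, hη'.def]
  exact congrArg Subtype.val h4.eq

end Groth.Agent.Helper19.SpecQuot
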