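import Mathlib
import Groth.Agent.Lib.Helper19.SpecQuot.Patch

/-!
# Quotients of spectral spaces by spectral relations (helper19)

`U`, `R` spectral, `s t : R → U` spectral maps, `π : U → X` continuous, open, surjective whose fibres are
the orbits of the relation `(s, t)`: then `X` is spectral.
-/

set_option autoImplicit false

namespace Groth.Agent.Helper19.SpecQuot

open Topology Set

variable {U R X : Type*} [TopologicalSpace U] [TopologicalSpace R] [TopologicalSpace X]

/-- the data of a spectral relation with open quotient map. -/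
structure Data (s t : R → U) (π : U → X) : Prop where
  hs : IsSpectralMap s
  ht : IsSpectralMap t
  cont : Continuous π
  isOpen : IsOpenMap π
  surj : Function.Surjective π
  rel : ∀ u u', π u = π u' ↔ ∃ r, s r = u ∧ t r = u'

namespace Data

variable {s t : R → U} {π : U → X} (D : Data s t π)

include D

theorem sat_eq (W : Set U) : π ⁻¹' (π '' W) = t '' (s ⁻¹' W) := by
  ext u'
  simp only [mem_preimage, mem_image]
  constructor
  · rintro ⟨u, hu, e⟩
    obtain ⟨r, rfl, rfl⟩ := (D.rel u u').1 e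
    exact ⟨r, hu, rfl⟩
  · rintro ⟨r, hr, rfl⟩
    exact ⟨s r, hr, (D.rel _ _).2 ⟨r, rfl, rfl⟩⟩

theorem isCompact_sat {W : Set U} (hWc : IsCompact W) (hWo : IsOpen W) :
    IsCompact (π ⁻¹' (π '' W)) := by
  rw [D.sat_eq]
  exact (D.hs.isCompact_preimage_of_isOpen hWo hWc).image D.ht.continuous

theorem isOpen_sat {W : Set U} (hWo : IsOpen W) : IsOpen (π ⁻¹' (π '' W)) :=
  (D.isOpen W hWo).preimage D.cont

theorem compactSpace [CompactSpace U] : CompactSpace X :=
  Function.Surjective.compactSpace D.cont D.surj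

theorem prespectralSpace [PrespectralSpace U] : PrespectralSpace X := by
  refine PrespectralSpace.of_isTopologicalBasis (B := {A | ∃ W : Set U, IsOpen W ∧ IsCompact W ∧ A = π '' W})
    ?_ ?_
  · refine TopologicalSpace.isTopologicalBasis_of_isOpen_of_nhds ?_ ?_
    · rintro _ ⟨W, hWo, -, rfl⟩
      exact D.isOpen W hWo
    · intro x V hxV hV
      obtain ⟨u, rfl⟩ := D.surj x
      obtain ⟨W, ⟨hWo, hWc⟩, huW, hWV⟩ :=
        PrespectralSpace.isTopologicalBasis.exists_subset_of_mem_open (show u ∈ π ⁻¹' V from hxV)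
          (hV.preimage D.cont)
      exact ⟨π '' W, ⟨W, hWo, hWc, rfl⟩, ⟨u, huW, rfl⟩, image_subset_iff.2 hWV⟩
  · rintro _ ⟨W, -, hWc, rfl⟩
    exact hWc.image D.cont

theorem isCompact_preimage [PrespectralSpace U] {A : Set X} (hAo : IsOpen A) (hAc : IsCompact A) :
    IsCompact (π ⁻¹' A) := by
  obtain ⟨V, hVc, hVA⟩ := D.isOpen.exists_opens_image_eq_of_prespectralSpace D.cont
    (by rw [D.surj.range_eq]; exact subset_univ _) hAo hAc
  rw [← hVA]
  exact D.isCompact_sat hVc V.2

theorem quasiSeparatedSpace [PrespectralSpace U] [QuasiSeparatedSpace U] : QuasiSeparatedSpace X := by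
  refine ⟨fun A B hAo hAc hBo hBc => ?_⟩
  have h := QuasiSeparatedSpace.inter_isCompact (π ⁻¹' A) (π ⁻¹' B) (hAo.preimage D.cont)
    (D.isCompact_preimage hAo hAc) (hBo.preimage D.cont) (D.isCompact_preimage hBo hBc)
  rw [← preimage_inter] at h
  have := h.image D.cont
  rwa [image_preimage_eq _ D.surj] at this

theorem quasiSober [SpectralSpace U] : QuasiSober X := by
  refine ⟨fun {Z} hZi hZc => ?_⟩
  let T : Set U := π ⁻¹' Z
  have hTc : IsClosed T := hZc.preimage D.cont
  let 𝒦 : Set (Set U) :=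
    insert T {K | ∃ W : Set U, IsOpen W ∧ IsCompact W ∧ (W ∩ T).Nonempty ∧ K = π ⁻¹' (π '' W)}
  have h1 : ∀ K ∈ 𝒦, PatchClosed K := by
    rintro K (rfl | ⟨W, hWo, hWc, -, rfl⟩)
    · exact patchClosed_of_isClosed hTc
    · exact patchClosed_of_isCompact_isOpen (D.isCompact_sat hWc hWo) (D.isOpen_sat hWo)
  have key : ∀ F : Set (Set U), F.Finite → F ⊆ 𝒦 →
      ∃ V : Set X, IsOpen V ∧ (Z ∩ V).Nonempty ∧ π ⁻¹' V ∩ T ⊆ ⋂₀ F := by
    intro F hfin
    induction F, hfin using Set.Finite.induction_on with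
    | empty =>
      intro _
      exact ⟨univ, isOpen_univ, by simpa using hZi.nonempty, by simp⟩
    | @insert K F hK hF ih =>
      intro hsub
      obtain ⟨V, hVo, hVZ, hV⟩ := ih ((subset_insert _ _).trans hsub)
      rcases hsub (mem_insert _ _) with rfl | ⟨W, hWo, hWc, ⟨w, hwW, hwT⟩, rfl⟩
      · refine ⟨V, hVo, hVZ, ?_⟩
        rw [sInter_insert]
        exact subset_inter inter_subset_right hV
      · refine ⟨V ∩ π '' W, hVo.inter (D.isOpen W hWo), ?_, ?_⟩
        · exact hZi.2 V (π '' W) hVo (D.isOpen W hWo) hVZ ⟨π w, hwT, w, hwW, rfl⟩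
        · rw [sInter_insert]
          refine subset_inter ?_ ?_
          · rintro u ⟨⟨-, hu⟩, -⟩
            exact hu
          · rintro u ⟨⟨hu, -⟩, huT⟩
            exact hV ⟨hu, huT⟩
  have h2 : ∀ F ⊆ 𝒦, F.Finite → (⋂₀ F).Nonempty := by
    intro F hF hfin
    obtain ⟨V, -, ⟨x, hxZ, hxV⟩, hV⟩ := key F hfin hF
    obtain ⟨u, rfl⟩ := D.surj x
    exact ⟨u, hV ⟨hxV, hxZ⟩⟩
  obtain ⟨u, hu⟩ := nonempty_sInter_of_patchClosed h1 h2
  have huT : π u ∈ Z := hu T (mem_insert _ _)
  refine ⟨π u, ?_⟩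
  change closure {π u} = Z
  refine subset_antisymm (closure_minimal (singleton_subset_iff.2 huT) hZc) ?_
  intro z hz
  rw [mem_closure_iff]
  intro o ho hzo
  obtain ⟨uz, rfl⟩ := D.surj z
  obtain ⟨W, ⟨hWo, hWc⟩, huW, hWV⟩ :=
    PrespectralSpace.isTopologicalBasis.exists_subset_of_mem_open (show uz ∈ π ⁻¹' o from hzo)
      (ho.preimage D.cont)
  have hmem : π ⁻¹' (π '' W) ∈ 𝒦 := Or.inr ⟨W, hWo, hWc, ⟨uz, huW, hz⟩, rfl⟩
  obtain ⟨w, hwW, hw⟩ : π u ∈ π '' W := hu _ hmem
  exact ⟨π u, by rw [← hw]; exact hWV hwW, rfl⟩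

/-- a point in the closure of an orbit is a specialization of a point of the orbit. -/
theorem exists_mem_orbit_of_mem_closure [SpectralSpace U] [CompactSpace R] [QuasiSober R]
    [PrespectralSpace R] [QuasiSeparatedSpace R] (u v : U) (hv : v ∈ closure (π ⁻¹' {π u})) :
    ∃ a, π a = π u ∧ v ∈ closure ({a} : Set U) := by
  let K : Set R := s ⁻¹' {u}
  have hK : PatchClosed K := patchClosed_preimage D.hs (patchClosed_singleton u)
  let 𝒦 : Set (Set R) := insert K {L | ∃ W : Set U, IsOpen W ∧ IsCompact W ∧ v ∈ W ∧ L = t ⁻¹' W}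
  have h1 : ∀ L ∈ 𝒦, PatchClosed L := by
    rintro L (rfl | ⟨W, hWo, hWc, -, rfl⟩)
    · exact hK
    · exact patchClosed_of_isCompact_isOpen (D.ht.isCompact_preimage_of_isOpen hWo hWc)
        (hWo.preimage D.ht.continuous)
  have key : ∀ F : Set (Set R), F.Finite → F ⊆ 𝒦 →
      ∃ W : Set U, IsOpen W ∧ v ∈ W ∧ t ⁻¹' W ∩ K ⊆ ⋂₀ F := by
    intro F hfin
    induction F, hfin using Set.Finite.induction_on with
    | empty =>
      intro _
      exact ⟨univ, isOpen_univ, mem_univ _, by simp⟩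
    | @insert L F hL hF ih =>
      intro hsub
      obtain ⟨W, hWo, hvW, hW⟩ := ih ((subset_insert _ _).trans hsub)
      rcases hsub (mem_insert _ _) with rfl | ⟨W', hWo', -, hvW', rfl⟩
      · refine ⟨W, hWo, hvW, ?_⟩
        rw [sInter_insert]
        exact subset_inter inter_subset_right hW
      · refine ⟨W ∩ W', hWo.inter hWo', ⟨hvW, hvW'⟩, ?_⟩
        rw [sInter_insert]
        refine subset_inter ?_ ?_
        · rintro r ⟨⟨-, hr⟩, -⟩
          exact hr
        · rintro r ⟨⟨hr, -⟩, hrK⟩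
          exact hW ⟨hr, hrK⟩
  have h2 : ∀ F ⊆ 𝒦, F.Finite → (⋂₀ F).Nonempty := by
    intro F hF hfin
    obtain ⟨W, hWo, hvW, hW⟩ := key F hfin hF
    obtain ⟨a, haW, ha⟩ := mem_closure_iff.1 hv W hWo hvW
    obtain ⟨r, rfl, rfl⟩ := (D.rel u a).1 (ha : π a = π u).symm
    exact ⟨r, hW ⟨haW, rfl⟩⟩
  obtain ⟨r, hr⟩ := nonempty_sInter_of_patchClosed h1 h2
  have hrK : s r = u := hr K (mem_insert _ _)
  refine ⟨t r, ((D.rel u (t r)).2 ⟨r, hrK, rfl⟩).symm, ?_⟩
  rw [mem_closure_iff]
  intro o ho hvo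
  obtain ⟨W, ⟨hWo, hWc⟩, hvW, hWo'⟩ :=
    PrespectralSpace.isTopologicalBasis.exists_subset_of_mem_open hvo ho
  have : r ∈ t ⁻¹' W := hr _ (Or.inr ⟨W, hWo, hWc, hvW, rfl⟩)
  exact ⟨t r, hWo' this, rfl⟩

theorem t0Space [SpectralSpace U] [CompactSpace R] [QuasiSober R] [PrespectralSpace R]
    [QuasiSeparatedSpace R] : T0Space X := by
  refine ⟨fun x y hxy => ?_⟩
  obtain ⟨ux, rfl⟩ := D.surj x
  obtain ⟨uy, rfl⟩ := D.surj y
  have hcl : closure {π ux} = closure {π uy} := inseparable_iff_closure_eq.1 hxy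
  let T : Set U := π ⁻¹' closure {π ux}
  have hT1 : T = closure (π ⁻¹' {π ux}) := D.isOpen.preimage_closure_eq_closure_preimage D.cont _
  have hT2 : T = closure (π ⁻¹' {π uy}) := by
    rw [← D.isOpen.preimage_closure_eq_closure_preimage D.cont, ← hcl]
  obtain ⟨η, hηT, hηmax⟩ := exists_maximal_point T (isClosed_closure.preimage D.cont)
    ⟨ux, subset_closure rfl⟩
  obtain ⟨a, ha, hηa⟩ := D.exists_mem_orbit_of_mem_closure ux η (hT1 ▸ hηT)
  obtain ⟨b, hb, hηb⟩ := D.exists_mem_orbit_of_mem_closure uy η (hT2 ▸ hηT)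
  have haT : a ∈ T := by
    change π a ∈ closure {π ux}
    rw [ha]
    exact subset_closure rfl
  have hbT : b ∈ T := by
    change π b ∈ closure {π ux}
    rw [hb, hcl]
    exact subset_closure rfl
  rw [← ha, ← hb, hηmax a haT hηa, hηmax b hbT hηb]

/-- **The quotient of a spectral space by a spectral relation with open quotient map is spectral.** -/
theorem spectralSpace [SpectralSpace U] [CompactSpace R] [QuasiSober R] [PrespectralSpace R]
    [QuasiSeparatedSpace R] : SpectralSpace X :=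
  { toT0Space := D.t0Space
    toCompactSpace := D.compactSpace
    toQuasiSober := D.quasiSober
    toQuasiSeparatedSpace := D.quasiSeparatedSpace
    toPrespectralSpace := D.prespectralSpace }

end Data

/-- the version for a map which is not surjective: the image is a spectral space. -/
theorem spectralSpace_range [SpectralSpace U] [CompactSpace R] [QuasiSober R] [PrespectralSpace R]
    [QuasiSeparatedSpace R] {s t : R → U} {π : U → X} (hs : IsSpectralMap s) (ht : IsSpectralMap t)
    (hc : Continuous π) (ho : IsOpenMap π) (rel : ∀ u u', π u = π u' ↔ ∃ r, s r = u ∧ t r = u') :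
    SpectralSpace (Set.range π) := by
  let π' : U → Set.range π := fun u => ⟨π u, mem_range_self u⟩
  have D : Data s t π' :=
    { hs := hs
      ht := ht
      cont := hc.subtype_mk _
      isOpen := by
        intro W hW
        have : π' '' W = Subtype.val ⁻¹' (π '' W) := by
          ext y
          constructor
          · rintro ⟨w, hw, rfl⟩
            exact ⟨w, hw, rfl⟩
          · rintro ⟨w, hw, e⟩
            exact ⟨w, hw, Subtype.ext e⟩
        rw [this]
        exact (ho W hW).preimage continuous_subtype_val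
      surj := by
        rintro ⟨_, u, rfl⟩
        exact ⟨u, rfl⟩
      rel := fun u u' => by
        rw [← rel u u']
        exact Subtype.ext_iff }
  exact D.spectralSpace

/-- the whole space, when the map is surjective. -/
theorem spectralSpace_of_surjective [SpectralSpace U] [CompactSpace R] [QuasiSober R] [PrespectralSpace R]
    [QuasiSeparatedSpace R] {s t : R → U} {π : U → X} (hs : IsSpectralMap s) (ht : IsSpectralMap t)
    (hc : Continuous π) (ho : IsOpenMap π) (hsurj : Function.Surjective π)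
    (rel : ∀ u u', π u = π u' ↔ ∃ r, s r = u ∧ t r = u') : SpectralSpace X :=
  Data.spectralSpace ⟨hs, ht, hc, ho, hsurj, rel⟩

end Groth.Agent.Helper19.SpecQuot
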