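import Mathlib
import Groth.Agent.Lib.Helper19.SpecQuot.Main
import Groth.Agent.Lib.Helper19.QcPts2
import Groth.Agent.Lib.Helper19.StPtsQc
import Groth.Agent.Lib.Helper19.StPtsTop

/-!
# The points of an algebraic stack with quasi-compact diagonal: images of affine charts are spectral
(helper19)
-/

set_option autoImplicit false
set_option backward.isDefEq.respectTransparency false

universe w₃ v₃ w' v' w v u

open CategoryTheory CategoryTheory.Limits Functor AlgebraicGeometry Opposite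

namespace Groth.Agent.Helper19.SpecQuot

open FibCat AlgSt Stk Groth.Agent.Helper19.FibLib Groth.Agent.Helper19.StLib Groth.Agent.Helper19.DiagAlgSp
  Groth.Agent.Helper19.PshSt Groth.Agent.Helper19.AlgP Groth.Agent.Helper19.ProdAlg
  Groth.Agent.Helper19.ImmLib Groth.Agent.Helper19.SpProps Groth.Agent.Helper19.ChartOver
  Groth.Agent.Helper16.AS Groth.Agent.Helper19.CancelLib Groth.Agent.Helper19.QcLib
  Groth.Agent.Helper19.SmLocLib Groth.Agent.Helper19.AlgStRep Groth.Agent.Helper19.PshLib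
  Groth.Agent.Helper19.CompLib Groth.Agent.Helper19.StPts Groth.Agent.Helper19.QcMor
  Groth.Agent.Helper19.QcPts

variable {S : Scheme.{u}}

/-- an affine scheme is a spectral space. -/
theorem spectralSpace_of_isAffine (X : Scheme.{u}) [IsAffine X] : SpectralSpace X :=
  haveI : SpectralSpace ↥(Spec Γ(X, ⊤)) := inferInstanceAs (SpectralSpace (PrimeSpectrum Γ(X, ⊤)))
  (Scheme.homeoOfIso X.isoSpec).isOpenEmbedding.spectralSpace

/-- cancellation for quasi-compact morphisms, with only the diagonal of `g` quasi-compact. -/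
theorem isQuasiCompactMor_of_comp_of_qc_diag {𝒳 𝒴 𝒵 : AlgSt.Cat S}
    (h𝒳 : IsAlgStack Scheme.fppfPrecoverage 𝒳) (h𝒴 : IsAlgStack Scheme.fppfPrecoverage 𝒴)
    (h𝒵 : IsAlgStack Scheme.fppfPrecoverage 𝒵) (f : 𝒳 ⥤ᵇ 𝒴) (g : 𝒴 ⥤ᵇ 𝒵)
    (hfg : IsQuasiCompactMor Scheme.fppfPrecoverage (BasedFunctor.comp f g))
    (hΔ : RepByAlgSpWith AlgSp.IsQuasiCompactMor (diag g)) :
    IsQuasiCompactMor Scheme.fppfPrecoverage f := by
  have hΓ := repByAlgSpWith_graph (BasedFunctor.comp f g) g f (Iso.refl _) hΔ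
  have hfp : IsAlgStack Scheme.fppfPrecoverage (fp (BasedFunctor.comp f g) g) :=
    isAlgStack_fp h𝒵.isStack h𝒵.diag h𝒳 h𝒴 _ _
  have h1 := isQuasiCompactMor_of_repByAlgSpWith h𝒳 hfp _ hΓ
  have h2 := isQuasiCompactMor_fpSnd (BasedFunctor.comp f g) g hfg
  exact isQuasiCompactMor_comp hfp h𝒴 _ _ h1 h2

/-- over a quasi-separated base, a chart from a quasi-compact scheme to an algebraic stack with quasi-compact
diagonal is a quasi-compact functor. -/
theorem isQuasiCompactMor_chart [QuasiSeparatedSpace S] {𝒳 : AlgSt.Cat S}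
    (h𝒳 : IsAlgStack Scheme.fppfPrecoverage 𝒳)
    (hΔ : RepByAlgSpWith AlgSp.IsQuasiCompactMor (diag (toSelf 𝒳)))
    (U : Over S) [CompactSpace ↥U.left] (x : overCat U ⥤ᵇ 𝒳) :
    IsQuasiCompactMor Scheme.fppfPrecoverage x := by
  have h1 := isQuasiCompactMor_toSelf (isAlgStack_overCat U) (isQuasiCompact_overCat U)
  have h2 : IsQuasiCompactMor Scheme.fppfPrecoverage (BasedFunctor.comp x (toSelf 𝒳)) :=
    isQuasiCompactMor_of_iso (Groth.Agent.Helper19.DiagLib.selfOverIso _ _) h1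
  exact isQuasiCompactMor_of_comp_of_qc_diag (isAlgStack_overCat U) h𝒳 (isAlgStack_selfOver S) x
    (toSelf 𝒳) h2 hΔ

/-- the relation on an affine smooth chart of an algebraic stack with quasi-compact diagonal is given by
an affine scheme. -/
theorem exists_affine_relation [QuasiSeparatedSpace S] {𝒳 : AlgSt.Cat S}
    (h𝒳 : IsAlgStack Scheme.fppfPrecoverage 𝒳)
    (hΔ : RepByAlgSpWith AlgSp.IsQuasiCompactMor (diag (toSelf 𝒳)))
    (U : Over S) [CompactSpace ↥U.left] (x : overCat U ⥤ᵇ 𝒳) :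
    ∃ (R₀ : Over S) (a b : R₀ ⟶ U), IsAffine R₀.left ∧
      ∀ u u' : ↥U.left, Points.ofChart x u = Points.ofChart x u' ↔
        ∃ r : ↥R₀.left, a.left r = u ∧ b.left r = u' := by
  have hqc : IsQuasiCompact (fp x x) :=
    isQuasiCompactMor_chart h𝒳 hΔ U x (overCat U) (isAlgStack_overCat U) (isQuasiCompact_overCat U) x
  obtain ⟨R₀, r, hR₀, -, hr₂⟩ := hqc
  have hfpg : IsFibGrpd (fp x x).p :=
    (isAlgStack_fp h𝒳.isStack h𝒳.diag (isAlgStack_overCat U) (isAlgStack_overCat U) x x).isStack.1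
  have hrs := surjective_ofChart_of_surjective (𝒳 := fp x x) hfpg R₀ r hr₂
  obtain ⟨a, ⟨ηa⟩⟩ := exists_overMap_iso (BasedFunctor.comp r (fpFst x x))
  obtain ⟨b, ⟨ηb⟩⟩ := exists_overMap_iso (BasedFunctor.comp r (fpSnd x x))
  have ha : ∀ r₀ : ↥R₀.left, Points.map (fpFst x x) (Points.ofChart r r₀) = chartPt U (a.left r₀) := by
    intro r₀
    rw [map_ofChart, ofChart_congr ηa, chartPt_apply, ← ofChart_overMap a (BasedFunctor.id (overCat U)) r₀,
      BasedFunctor.comp_id]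
  have hb : ∀ r₀ : ↥R₀.left, Points.map (fpSnd x x) (Points.ofChart r r₀) = chartPt U (b.left r₀) := by
    intro r₀
    rw [map_ofChart, ofChart_congr ηb, chartPt_apply, ← ofChart_overMap b (BasedFunctor.id (overCat U)) r₀,
      BasedFunctor.comp_id]
  refine ⟨R₀, a, b, hR₀, fun u u' => ⟨fun h => ?_, ?_⟩⟩
  · rw [ofChart_eq, ofChart_eq] at h
    obtain ⟨w, hw₁, hw₂⟩ := exists_points_fp_of_map_eq (isFibGrpd_overCat U) h𝒳.isStack.1
      (isFibGrpd_overCat U) x x (chartPt U u) (chartPt U u') h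
    obtain ⟨r₀, rfl⟩ := hrs w
    refine ⟨r₀, (chartPt U).injective ?_, (chartPt U).injective ?_⟩
    · rw [← ha, hw₁]
    · rw [← hb, hw₂]
  · rintro ⟨r₀, rfl, rfl⟩
    rw [ofChart_eq, ofChart_eq, ← ha, ← hb, ← StPts.map_comp, ← StPts.map_comp]
    exact congrFun (map_congr (fpIso x x)) _

/-- **the image of a smooth chart from an affine scheme is a spectral space.** -/
theorem spectralSpace_range_ofChart [QuasiSeparatedSpace S] {𝒳 : AlgSt.Cat S}
    (h𝒳 : IsAlgStack Scheme.fppfPrecoverage 𝒳)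
    (hΔ : RepByAlgSpWith AlgSp.IsQuasiCompactMor (diag (toSelf 𝒳)))
    (U : Over S) [IsAffine U.left] (x : overCat U ⥤ᵇ 𝒳)
    (hx : RepByAlgSpWith (AlgSp.LocP @Smooth) x) :
    SpectralSpace (Set.range (Points.ofChart x)) := by
  obtain ⟨R₀, a, b, hR₀, hrel⟩ := exists_affine_relation h𝒳 hΔ U x
  haveI := spectralSpace_of_isAffine U.left
  haveI := spectralSpace_of_isAffine R₀.left
  exact spectralSpace_range (s := a.left) (t := b.left) a.left.isSpectralMap b.left.isSpectralMap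
    (continuous_ofChart h𝒳 x) (isOpenMap_ofChart_of_smooth h𝒳 U x hx) hrel

/-- S12834. -/
theorem spectralSpace_points [QuasiSeparatedSpace S] {𝒳 : AlgSt.Cat S}
    (h𝒳 : IsAlgStack Scheme.fppfPrecoverage 𝒳) (hqc : IsQuasiCompact 𝒳)
    (hΔ : RepByAlgSpWith AlgSp.IsQuasiCompactMor (diag (toSelf 𝒳))) :
    SpectralSpace (Points 𝒳) := by
  obtain ⟨U, x, hU, hx₁, hx₂⟩ := hqc
  obtain ⟨R₀, a, b, hR₀, hrel⟩ := exists_affine_relation h𝒳 hΔ U x
  haveI := spectralSpace_of_isAffine U.left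
  haveI := spectralSpace_of_isAffine R₀.left
  exact spectralSpace_of_surjective (s := a.left) (t := b.left) a.left.isSpectralMap b.left.isSpectralMap
    (continuous_ofChart h𝒳 x) (isOpenMap_ofChart_of_smooth h𝒳 U x hx₁)
    (surjective_ofChart_of_surjective h𝒳.isStack.1 U x hx₂) hrel

end Groth.Agent.Helper19.SpecQuot
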