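import Mathlib
import Groth.Agent.Lib.Helper19.SpecQuot.Stack

/-!
# The points of an algebraic stack with quasi-compact diagonal: locally spectral, sober (helper19)
-/

set_option autoImplicit false
set_option backward.isDefEq.respectTransparency false

universe w₃ v₃ w' v' w v u

open CategoryTheory CategoryTheory.Limits Functor AlgebraicGeometry Opposite

namespace Groth.Agent.Helper19.SpecQuot

open FibCat AlgSt Stk Groth.Agent.Helper19.FibLib Groth.Agent.Helper19.StLib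
  Groth.Agent.Helper19.ChartOver Groth.Agent.Helper19.StPts Groth.Agent.Helper19.QcPts

variable {S : Scheme.{u}}

/-- a space which is locally spectral is quasi-sober and `T0`. -/
theorem quasiSober_t0_of_locally_spectral {X : Type*} [TopologicalSpace X]
    (h : ∀ x : X, ∃ U : Set X, IsOpen U ∧ x ∈ U ∧ SpectralSpace ↥U) : QuasiSober X ∧ T0Space X := by
  constructor
  · let 𝒮 : Set (Set X) := {U | IsOpen U ∧ SpectralSpace ↥U}
    have h1 : ∀ s : 𝒮, IsOpen (s : Set X) := fun s => s.2.1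
    have h2 : ∀ s : 𝒮, QuasiSober s := fun s => by
      haveI := s.2.2
      infer_instance
    refine quasiSober_of_open_cover 𝒮 h1 ?_
    apply Set.eq_univ_of_forall
    intro x
    obtain ⟨U, hU, hxU, hUs⟩ := h x
    exact Set.mem_sUnion.2 ⟨U, ⟨hU, hUs⟩, hxU⟩
  · refine ⟨fun x y hxy => ?_⟩
    obtain ⟨U, hU, hxU, hUs⟩ := h x
    have hyU : y ∈ U := (hxy.mem_open_iff hU).1 hxU
    have h3 : Inseparable (⟨x, hxU⟩ : U) ⟨y, hyU⟩ :=
      Topology.IsInducing.subtypeVal.inseparable_iff.1 hxy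
    exact congrArg Subtype.val h3.eq

/-- every point of an algebraic stack with quasi-compact diagonal has a spectral open neighbourhood. -/
theorem exists_spectral_open_nhd [QuasiSeparatedSpace S] {𝒳 : AlgSt.Cat S}
    (h𝒳 : IsAlgStack Scheme.fppfPrecoverage 𝒳)
    (hΔ : RepByAlgSpWith AlgSp.IsQuasiCompactMor (diag (toSelf 𝒳))) (x : Points 𝒳) :
    ∃ U : Set (Points 𝒳), IsOpen U ∧ x ∈ U ∧ SpectralSpace ↥U := by
  obtain ⟨V, p, hp₁, hp₂⟩ := h𝒳.atlas
  have hs := surjective_ofChart_of_surjective h𝒳.isStack.1 V p hp₂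
  obtain ⟨v, rfl⟩ := hs x
  obtain ⟨_, ⟨O₀, hO, rfl⟩, hvO, -⟩ :=
    (V.left.isBasis_affineOpens).exists_subset_of_mem_open (Set.mem_univ v) isOpen_univ
  let O : V.left.Opens := O₀
  let U' : Over S := Over.mk (O.ι ≫ V.hom)
  let g : U' ⟶ V := Over.homMk O.ι rfl
  have hge : Etale g.left := (inferInstance : Etale O.ι)
  haveI : IsAffine U'.left := hO
  have hx' := smooth_overMap_comp p hp₁ g hge
  refine ⟨Set.range (Points.ofChart (BasedFunctor.comp (overMap g) p)),
    (isOpenMap_ofChart_of_smooth h𝒳 U' _ hx').isOpen_range, ⟨⟨v, hvO⟩, ?_⟩,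
    spectralSpace_range_ofChart h𝒳 hΔ U' _ hx'⟩
  rw [ofChart_overMap]
  rfl

/-- S12835. -/
theorem locally_spectral_sober [QuasiSeparatedSpace S] {𝒳 : AlgSt.Cat S}
    (h𝒳 : IsAlgStack Scheme.fppfPrecoverage 𝒳)
    (hΔ : RepByAlgSpWith AlgSp.IsQuasiCompactMor (diag (toSelf 𝒳))) :
    (∀ x : Points 𝒳, ∃ U : Set (Points 𝒳), IsOpen U ∧ x ∈ U ∧ SpectralSpace ↥U) ∧
      QuasiSober (Points 𝒳) ∧ T0Space (Points 𝒳) :=
  ⟨exists_spectral_open_nhd h𝒳 hΔ, quasiSober_t0_of_locally_spectral (exists_spectral_open_nhd h𝒳 hΔ)⟩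

end Groth.Agent.Helper19.SpecQuot
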